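import Groth.Agent.Lib.SpecDense.Core
import Mathlib.RingTheory.Smooth.IntegralClosure
import Mathlib.RingTheory.MvPolynomial.Localization

/-!
# A generic combination of finitely many integral elements of a finite extension
-/

set_option autoImplicit false
set_option linter.style.haveILetI false

universe u

open Polynomial

namespace GrothLib.NormCard21

/-- A combination with indeterminate coefficients which separates `finrank` many points generates, up to an
element not vanishing at the points. -/
theorem exists_generic {A : Type u} [CommRing A] [IsDomain A] [IsIntegrallyClosed A] {K : Type u} [Field K]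
    [Algebra A K] [IsFractionRing A K] {L : Type u} [Field L] [Algebra K L] [Algebra A L] [IsScalarTower A K L]
    [FiniteDimensional K L] {Ω : Type u} [Field Ω] [Algebra A Ω]
    (η : Fin (Module.finrank K L) → (integralClosure A L →ₐ[A] Ω)) (hη : Function.Injective η) :
    ∃ (m : ℕ) (Δ : MvPolynomial (Fin m) A) (c : MvPolynomial (Fin m) (integralClosure A L)),
      MvPolynomial.map (algebraMap A Ω) Δ ≠ 0 ∧
      ∀ b : integralClosure A L, ∃ r : Fin (Module.finrank K L) → MvPolynomial (Fin m) A,
        MvPolynomial.map (algebraMap A (integralClosure A L)) Δ * MvPolynomial.C b =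
          ∑ k, MvPolynomial.map (algebraMap A (integralClosure A L)) (r k) * c ^ (k : ℕ) := by
  classical
  let n := Module.finrank K L
  let B := integralClosure A L
  -- separating elements
  have hsep : ∀ p : {p : Fin n × Fin n // p.1 ≠ p.2}, ∃ b : B, η p.1.1 b ≠ η p.1.2 b := fun p => by
    by_contra h
    push Not at h
    exact p.2 (hη (AlgHom.ext h))
  choose sep hsep using hsep
  let e := Fintype.equivFin {p : Fin n × Fin n // p.1 ≠ p.2}
  let m := Fintype.card {p : Fin n × Fin n // p.1 ≠ p.2}
  let σ := Fin m
  let R := MvPolynomial σ A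
  let c : MvPolynomial σ B := ∑ j, MvPolynomial.X j * MvPolynomial.C (sep (e.symm j))
  let ℓ : Fin n → MvPolynomial σ Ω := fun i => MvPolynomial.map (η i).toRingHom c
  have hℓ : Function.Injective ℓ := by
    intro i i' h
    by_contra hne
    refine hsep ⟨(i, i'), hne⟩ ?_
    have h1 := congrArg (MvPolynomial.coeff (Finsupp.single (e ⟨(i, i'), hne⟩) 1)) h
    simpa [ℓ, c, map_sum, MvPolynomial.coeff_sum, MvPolynomial.coeff_X_mul', MvPolynomial.coeff_C,
      Finsupp.single_apply, eq_comm] using h1
  -- the fields
  let PL := MvPolynomial σ L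
  let L' := FractionRing PL
  have hAL : Function.Injective (algebraMap A L) := by
    rw [IsScalarTower.algebraMap_eq A K L]
    exact (algebraMap K L).injective.comp (IsFractionRing.injective A K)
  letI : Algebra R L' := ((algebraMap PL L').comp (MvPolynomial.map (algebraMap A L))).toAlgebra
  haveI : FaithfulSMul R L' := (faithfulSMul_iff_algebraMap_injective R L').2
    ((IsFractionRing.injective PL L').comp (MvPolynomial.map_injective _ hAL))
  let K' := FractionRing R
  letI : Algebra K' L' := FractionRing.liftAlgebra R L'
  haveI : IsScalarTower R K' L' := FractionRing.isScalarTower_liftAlgebra R L'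
  -- the span of a basis
  let bas := Module.finBasis K L
  let j : L →+* L' := (algebraMap PL L').comp MvPolynomial.C
  let W : Submodule K' L' := Submodule.span K' (Set.range fun i => j (bas i))
  have hK : ∀ x : K, ∃ y : K', algebraMap K' L' y = j (algebraMap K L x) := by
    intro x
    obtain ⟨a, d, hd, rfl⟩ := IsFractionRing.div_surjective (A := A) x
    refine ⟨algebraMap R K' (MvPolynomial.C a) / algebraMap R K' (MvPolynomial.C d), ?_⟩
    simp only [map_div₀, ← IsScalarTower.algebraMap_apply]
    simp only [RingHom.algebraMap_toAlgebra, j, RingHom.comp_apply, ← IsScalarTower.algebraMap_apply]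
    erw [MvPolynomial.map_C, MvPolynomial.map_C]
  have hjW : ∀ l : L, j l ∈ W := by
    intro l
    rw [← bas.sum_repr l, map_sum]
    refine W.sum_mem fun i _ => ?_
    obtain ⟨y, hy⟩ := hK (bas.repr l i)
    rw [Algebra.smul_def, map_mul, ← hy, ← Algebra.smul_def]
    exact W.smul_mem _ (Submodule.subset_span ⟨i, rfl⟩)
  have hmulW : ∀ x ∈ W, ∀ y ∈ W, x * y ∈ W := by
    intro x hx y hy
    induction hx using Submodule.span_induction with
    | mem x hx =>
      obtain ⟨i, rfl⟩ := hx
      induction hy using Submodule.span_induction with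
      | mem y hy =>
        obtain ⟨i', rfl⟩ := hy
        rw [← map_mul]
        exact hjW _
      | zero => simp
      | add y₁ y₂ _ _ h₁ h₂ => rw [mul_add]; exact W.add_mem h₁ h₂
      | smul t y _ h => rw [mul_smul_comm]; exact W.smul_mem t h
    | zero => simp
    | add x₁ x₂ _ _ h₁ h₂ => rw [add_mul]; exact W.add_mem h₁ h₂
    | smul t x _ h => rw [smul_mul_assoc]; exact W.smul_mem t h
  let S : Subalgebra K' L' := W.toSubalgebra (by simpa using hjW 1) (fun x y hx hy => hmulW x hx y hy)
  haveI : Module.Finite K' W := Module.Finite.span_of_finite K' (Set.finite_range _)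
  haveI : Module.Finite K' S := ‹Module.Finite K' W›
  have hSdim : Module.finrank K' S ≤ n := by
    refine (finrank_range_le_card (R := K') (fun i => j (bas i))).trans ?_
    simp [n]
  haveI : IsDomain S := inferInstance
  -- the generic element
  let θ : MvPolynomial σ B →+* L' := (algebraMap PL L').comp (MvPolynomial.map (algebraMap B L))
  have hθinj : Function.Injective θ :=
    (IsFractionRing.injective PL L').comp (MvPolynomial.map_injective _ Subtype.val_injective)
  have hθR : ∀ r : R, θ (MvPolynomial.map (algebraMap A B) r) = algebraMap R L' r := fun r => by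
    show algebraMap PL L' (MvPolynomial.map _ (MvPolynomial.map _ r)) = _
    rw [MvPolynomial.map_map]
    rfl
  have hθC : ∀ b : B, θ (MvPolynomial.C b) = j (algebraMap B L b) := fun b => by
    simp only [θ, j, RingHom.comp_apply]
    erw [MvPolynomial.map_C]
  have hθc : θ c ∈ S := by
    rw [map_sum]
    refine Subalgebra.sum_mem _ fun i _ => ?_
    rw [map_mul, hθC, ← show MvPolynomial.map (algebraMap A B) (MvPolynomial.X i : R) = MvPolynomial.X i from
      MvPolynomial.map_X _ _, hθR, IsScalarTower.algebraMap_apply R K' L', ← Algebra.smul_def]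
    exact W.smul_mem _ (hjW _)
  let γ : S := ⟨θ c, hθc⟩
  have hint : IsIntegral R γ := by
    rw [← isIntegral_algHom_iff (S.val.restrictScalars R) Subtype.val_injective]
    show IsIntegral R (θ c)
    rw [map_sum]
    refine IsIntegral.sum _ fun i _ => ?_
    rw [map_mul, hθC, ← show MvPolynomial.map (algebraMap A B) (MvPolynomial.X i : R) = MvPolynomial.X i from
      MvPolynomial.map_X _ _, hθR]
    refine isIntegral_algebraMap.mul ?_
    exact IsIntegral.map_of_comp_eq (MvPolynomial.C : A →+* R) j (by
      refine RingHom.ext fun a => ?_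
      simp only [RingHom.algebraMap_toAlgebra, j, RingHom.comp_apply]
      erw [MvPolynomial.map_C]) (sep (e.symm i)).2
  let F := minpoly R γ
  have hF : F.Monic := minpoly.monic hint
  have hFK : minpoly K' γ = F.map (algebraMap R K') := minpoly.isIntegrallyClosed_eq_field_fractions K' S hint
  have hdeg : F.natDegree ≤ n := by
    rw [← hF.natDegree_map (algebraMap R K'), ← hFK]
    exact (minpoly.natDegree_le γ).trans hSdim
  have hFc : Polynomial.eval₂ (MvPolynomial.map (algebraMap A B)) c F = 0 := by
    apply hθinj
    rw [map_zero, Polynomial.hom_eval₂, show θ.comp (MvPolynomial.map (algebraMap A B)) = algebraMap R L' from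
      RingHom.ext hθR]
    have h := congrArg (fun x : S => (x : L')) (minpoly.aeval R γ)
    exact ((Polynomial.aeval_algHom_apply (S.val.restrictScalars R) γ F).trans h : _)
  let q : R →+* MvPolynomial σ Ω := MvPolynomial.map (algebraMap A Ω)
  have hq : ∀ i, (MvPolynomial.map (η i).toRingHom).comp (MvPolynomial.map (algebraMap A B)) = q := fun i => by
    refine RingHom.ext fun r => ?_
    show MvPolynomial.map _ (MvPolynomial.map _ r) = _
    rw [MvPolynomial.map_map]
    congr 1
    exact congrArg (fun f => MvPolynomial.map f) (η i).comp_algebraMap |>.trans rfl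
  have hroot : ∀ i, (F.map q).IsRoot (ℓ i) := fun i => by
    rw [Polynomial.IsRoot.def, Polynomial.eval_map, ← hq i, ← Polynomial.hom_eval₂, hFc, map_zero]
  -- the degree and the separability after evaluation
  let Ω' := FractionRing (MvPolynomial σ Ω)
  let q' : R →+* Ω' := (algebraMap (MvPolynomial σ Ω) Ω').comp q
  let ℓ' : Fin n → Ω' := fun i => algebraMap (MvPolynomial σ Ω) Ω' (ℓ i)
  have hℓ' : Function.Injective ℓ' := (IsFractionRing.injective (MvPolynomial σ Ω) Ω').comp hℓ
  have hdvd : ∏ i, (X - C (ℓ' i)) ∣ F.map q' :=
    Finset.prod_dvd_of_coprime (fun a _ b _ hab => Polynomial.pairwise_coprime_X_sub_C hℓ' hab) fun i _ => by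
      rw [Polynomial.dvd_iff_isRoot, Polynomial.IsRoot.def, ← Polynomial.map_map, Polynomial.eval_map,
        Polynomial.eval₂_at_apply]
      exact (congrArg _ (hroot i)).trans (map_zero _)
  have hmonic : (∏ i, (X - C (ℓ' i))).Monic := Polynomial.monic_prod_of_monic _ _ fun i _ => monic_X_sub_C _
  have hprod : F.map q' = ∏ i, (X - C (ℓ' i)) := by
    refine (Polynomial.eq_of_monic_of_dvd_of_natDegree_le hmonic (hF.map q') hdvd ?_)
    rw [hF.natDegree_map, Polynomial.natDegree_prod_of_monic _ _ fun i _ => monic_X_sub_C _]
    simpa using hdeg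
  have hn : F.natDegree = n := by
    have h := congrArg Polynomial.natDegree hprod
    rw [hF.natDegree_map, Polynomial.natDegree_prod_of_monic _ _ fun i _ => monic_X_sub_C _] at h
    simpa using h
  have hn0 : n ≠ 0 := (Module.finrank_pos (R := K) (M := L)).ne'
  have hsepF : (F.map q').Separable := by
    rw [hprod]
    exact Polynomial.separable_prod_X_sub_C_iff.2 hℓ'
  let Δ := Polynomial.resultant F (derivative F) F.natDegree F.natDegree
  have hΔ : q' Δ ≠ 0 := by
    show q' (Polynomial.resultant F (derivative F) F.natDegree F.natDegree) ≠ 0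
    rw [← Polynomial.resultant_map_map]
    have hle : ((derivative F).map q').natDegree ≤ F.natDegree :=
      Polynomial.natDegree_map_le.trans ((Polynomial.natDegree_derivative_le F).trans (Nat.sub_le _ _))
    obtain ⟨k, hk⟩ := Nat.exists_eq_add_of_le hle
    conv => enter [1, 4]; rw [hk]
    rw [Polynomial.resultant_add_right_deg _ _ _ _ _ le_rfl]
    have hc1 : (F.map q').coeff F.natDegree = 1 := by
      rw [Polynomial.coeff_map, hF.coeff_natDegree, map_one]
    rw [hc1, one_pow, one_mul, ← hF.natDegree_map q']
    refine Polynomial.resultant_ne_zero _ _ ?_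
    rw [← Polynomial.derivative_map]
    exact hsepF
  refine ⟨m, Δ, c, fun h => hΔ (by show algebraMap _ Ω' (q Δ) = 0; exact (congrArg _ h).trans (map_zero _)),
    fun b => ?_⟩
  obtain ⟨u, v, -, -, huv⟩ := Polynomial.exists_mul_add_mul_eq_C_resultant F (derivative F)
    (m := F.natDegree) (n := F.natDegree) le_rfl ((Polynomial.natDegree_derivative_le F).trans (Nat.sub_le _ _))
    (Or.inl (by omega))
  -- `b` is a polynomial in the generic element
  let γ' : S := γ
  let φ : K'[X] →ₐ[R] S := (Polynomial.aeval γ').restrictScalars R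
  have hker : RingHom.ker φ.toRingHom = Ideal.span {F.map (algebraMap R K')} := by
    rw [← hFK]
    exact minpoly.ker_aeval_eq_span_minpoly K' γ
  have hφ : Function.Surjective φ := by
    let v : Fin n → S := fun i => γ ^ (i : ℕ)
    have hv : LinearIndependent K' v := by
      have h := linearIndependent_pow (K := K') γ
      rw [hFK, hF.natDegree_map, hn] at h
      exact h
    have hspan : Submodule.span K' (Set.range v) = ⊤ :=
      hv.span_eq_top_of_card_eq_finrank' (le_antisymm hv.fintype_card_le_finrank (hSdim.trans (by simp [n])))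
    intro y
    have hy : y ∈ Submodule.span K' (Set.range v) := hspan ▸ Submodule.mem_top
    obtain ⟨f, rfl⟩ := Submodule.mem_span_range_iff_exists_fun K' |>.1 hy
    refine ⟨∑ i, Polynomial.C (f i) * X ^ (i : ℕ), ?_⟩
    show Polynomial.aeval γ _ = _
    rw [map_sum]
    exact Finset.sum_congr rfl fun i _ => by simp [v, Algebra.smul_def]
  let bS : S := ⟨θ (MvPolynomial.C b), by rw [hθC]; exact hjW _⟩
  have hbS : IsIntegral R bS := by
    rw [← isIntegral_algHom_iff (S.val.restrictScalars R) Subtype.val_injective]
    show IsIntegral R (θ (MvPolynomial.C b))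
    rw [hθC]
    exact IsIntegral.map_of_comp_eq (MvPolynomial.C : A →+* R) j (by
      refine RingHom.ext fun a => ?_
      simp only [RingHom.algebraMap_toAlgebra, j, RingHom.comp_apply]
      erw [MvPolynomial.map_C]) b.2
  obtain ⟨g, hg, hgint⟩ := exists_derivative_mul_eq_and_isIntegral_coeff hφ (hF.map _)
    (fun i => by rw [Polynomial.coeff_map]; exact isIntegral_algebraMap) hker hbS
  have hgR : ∀ i, ∃ r : R, algebraMap R K' r = g.coeff i := fun i => IsIntegrallyClosed.isIntegral_iff.1 (hgint i)
  obtain ⟨g₀, rfl⟩ : ∃ g₀ : R[X], g₀.map (algebraMap R K') = g :=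
    (Polynomial.mem_lifts g).1 ((Polynomial.lifts_iff_coeff_lifts g).2 fun i => hgR i)
  let G := (v * g₀) %ₘ F
  have hGdeg : G.natDegree < n := by
    rw [← hn]
    exact Polynomial.natDegree_modByMonic_lt _ hF fun h1 => hn0 (by rw [← hn, h1, natDegree_one])
  refine ⟨fun k => G.coeff (k : ℕ), hθinj ?_⟩
  have hev : ∀ P : R[X], Polynomial.aeval (θ c) P = (Polynomial.aeval γ P : S) := fun P =>
    Polynomial.aeval_algHom_apply (S.val.restrictScalars R) γ P
  have hF0 : Polynomial.aeval (θ c) F = 0 := by rw [hev, minpoly.aeval]; rfl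
  have hgb : Polynomial.aeval (θ c) (derivative F) * θ (MvPolynomial.C b) = Polynomial.aeval (θ c) g₀ := by
    rw [hev, hev]
    have h : Polynomial.aeval γ' (derivative (F.map (algebraMap R K'))) * bS =
        Polynomial.aeval γ' (g₀.map (algebraMap R K')) := hg
    rw [Polynomial.derivative_map, Polynomial.aeval_map_algebraMap, Polynomial.aeval_map_algebraMap] at h
    exact congrArg Subtype.val h
  rw [map_mul, hθR, map_sum]
  simp only [map_mul, map_pow]
  erw [Finset.sum_congr rfl (fun k (_ : k ∈ Finset.univ) => congrArg (· * θ c ^ ((k : Fin n) : ℕ)) (hθR (G.coeff k)))]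
  have hG : Polynomial.aeval (θ c) G = ∑ k : Fin n, algebraMap R L' (G.coeff k) * θ c ^ (k : ℕ) := by
    rw [Polynomial.aeval_eq_sum_range' hGdeg, ← Fin.sum_univ_eq_sum_range]
    exact Finset.sum_congr rfl fun k _ => Algebra.smul_def _ _
  rw [← hG, show G = (v * g₀) %ₘ F from rfl, Polynomial.modByMonic_eq_sub_mul_div, map_sub, map_mul, map_mul, hF0, zero_mul, sub_zero, ← hgb]
  have h2 := congrArg (Polynomial.aeval (θ c)) huv
  rw [map_add, map_mul, map_mul, hF0, zero_mul, zero_add, Polynomial.aeval_C] at h2
  rw [← h2]
  ring

end GrothLib.NormCard21
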