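import Groth.Agent.NormCard21.Generic
import Groth.Agent.Lib.TraceEtale.Basic
import Mathlib.RingTheory.LocalRing.Module
import Mathlib.RingTheory.Etale.Pi
import Mathlib.RingTheory.Smooth.Fiber

/-!
# A normalization with as many geometric points as its degree is finite étale near the point
-/

set_option autoImplicit false
set_option linter.style.haveILetI false
set_option backward.isDefEq.respectTransparency false

universe u

open TensorProduct

namespace GrothLib.NormCard21

variable {A : Type u} [CommRing A] [IsDomain A] [IsIntegrallyClosed A] {K : Type u} [Field K]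
    [Algebra A K] [IsFractionRing A K] {L : Type u} [Field L] [Algebra K L] [Algebra A L] [IsScalarTower A K L]
    [FiniteDimensional K L] {Ω : Type u} [Field Ω] [Algebra A Ω]
    (η : Fin (Module.finrank K L) → (integralClosure A L →ₐ[A] Ω)) (hη : Function.Injective η)

include η hη in
/-- The integral closure is finite away from an element which does not vanish at the point. -/
theorem exists_smul_mem_span :
    ∃ (a : A) (s : Finset (integralClosure A L)), algebraMap A Ω a ≠ 0 ∧
      ∀ b : integralClosure A L, a • b ∈ Submodule.span A (s : Set (integralClosure A L)) := by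
  classical
  obtain ⟨m, Δ, c, hΔ, hspan⟩ := exists_generic η hη
  obtain ⟨μ, hμ⟩ := MvPolynomial.ne_zero_iff.1 hΔ
  rw [MvPolynomial.coeff_map] at hμ
  refine ⟨Δ.coeff μ, (Finset.univ : Finset (Fin (Module.finrank K L))).biUnion fun k =>
    (Finset.HasAntidiagonal.antidiagonal μ).image fun p => (c ^ (k : ℕ)).coeff p.2, hμ, fun b => ?_⟩
  obtain ⟨r, hr⟩ := hspan b
  have h := congrArg (MvPolynomial.coeff μ) hr
  rw [mul_comm, MvPolynomial.coeff_C_mul, MvPolynomial.coeff_map, mul_comm, ← Algebra.smul_def, MvPolynomial.coeff_sum] at h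
  rw [h]
  refine Submodule.sum_mem _ fun k _ => ?_
  rw [MvPolynomial.coeff_mul]
  refine Submodule.sum_mem _ fun p hp => ?_
  rw [MvPolynomial.coeff_map, ← Algebra.smul_def]
  exact Submodule.smul_mem _ _ (Submodule.subset_span (Finset.mem_biUnion.2
    ⟨k, Finset.mem_univ k, Finset.mem_image.2 ⟨p, hp, rfl⟩⟩))

theorem finrank_tensor_le_aux {B : Type u} [CommRing B] [Algebra A B] [Module.Finite Ω (Ω ⊗[A] B)] {m n : ℕ}
    (F : Type u) [Field F] [Algebra Ω F] [Algebra (MvPolynomial (Fin m) Ω) F]
    [IsScalarTower Ω (MvPolynomial (Fin m) Ω) F]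
    (hF : Function.Injective (algebraMap (MvPolynomial (Fin m) Ω) F))
    (Δ : MvPolynomial (Fin m) A) (c : MvPolynomial (Fin m) B)
    (hΔ : MvPolynomial.map (algebraMap A Ω) Δ ≠ 0)
    (hspan : ∀ b : B, ∃ r : Fin n → MvPolynomial (Fin m) A,
        MvPolynomial.map (algebraMap A B) Δ * MvPolynomial.C b =
          ∑ k, MvPolynomial.map (algebraMap A B) (r k) * c ^ (k : ℕ)) :
    Module.finrank Ω (Ω ⊗[A] B) ≤ n := by
  let W := Ω ⊗[A] B
  let P := MvPolynomial (Fin m) Ω
  let ψ : B →+* F ⊗[Ω] W :=
    (Algebra.TensorProduct.includeRight : W →ₐ[Ω] F ⊗[Ω] W).toRingHom.comp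
      (Algebra.TensorProduct.includeRight : B →ₐ[A] W).toRingHom
  let ιF : F →+* F ⊗[Ω] W := algebraMap F (F ⊗[Ω] W)
  let ιP : P →+* F := algebraMap P F
  let tj : Fin m → F ⊗[Ω] W := fun j => ιF (ιP (MvPolynomial.X j))
  let Θ : MvPolynomial (Fin m) (B) →+* F ⊗[Ω] W :=
    MvPolynomial.eval₂Hom ψ tj
  let q : MvPolynomial (Fin m) A →+* F := (algebraMap P F).comp (MvPolynomial.map (algebraMap A Ω))
  have hΘ : ∀ r, Θ (MvPolynomial.map (algebraMap A (B)) r) =
      algebraMap F (F ⊗[Ω] W) (q r) := by
    intro r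
    refine RingHom.congr_fun (MvPolynomial.ringHom_ext (f := Θ.comp (MvPolynomial.map _))
      (g := (algebraMap F (F ⊗[Ω] W)).comp q) (fun a => ?_) fun j => ?_) r
    · simp only [RingHom.comp_apply, MvPolynomial.map_C, Θ, MvPolynomial.eval₂Hom_C, q, ψ]
      show (Algebra.TensorProduct.includeRight : W →ₐ[Ω] F ⊗[Ω] W)
        ((Algebra.TensorProduct.includeRight : B →ₐ[A] W) (algebraMap A B a)) = _
      erw [MvPolynomial.map_C]
      rw [AlgHom.commutes, IsScalarTower.algebraMap_apply A Ω W, AlgHom.commutes,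
        IsScalarTower.algebraMap_apply Ω F (F ⊗[Ω] W), IsScalarTower.algebraMap_apply Ω P F,
        MvPolynomial.algebraMap_eq]
    · simp only [RingHom.comp_apply, MvPolynomial.map_X, Θ, MvPolynomial.eval₂Hom_X', q, tj, ιF, ιP]
      erw [MvPolynomial.map_X]
  have hqΔ : q Δ ≠ 0 := fun h => hΔ (hF (h.trans (map_zero _).symm))
  let v : Fin n → F ⊗[Ω] W := fun k => Θ c ^ (k : ℕ)
  have hψ : ∀ b, ψ b ∈ Submodule.span F (Set.range v) := by
    intro b
    obtain ⟨r, hr⟩ := hspan b
    have h := congrArg Θ hr
    rw [map_mul, hΘ, MvPolynomial.eval₂Hom_C, map_sum] at h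
    refine (Submodule.smul_mem_iff _ hqΔ).1 ?_
    rw [show q Δ • ψ b = algebraMap F (F ⊗[Ω] W) (q Δ) * ψ b from ?_, h]
    rotate_left
    · show q Δ • ((1 : F) ⊗ₜ[Ω] ((1 : Ω) ⊗ₜ[A] b : W)) = (q Δ ⊗ₜ[Ω] (1 : W)) * ((1 : F) ⊗ₜ[Ω] ((1 : Ω) ⊗ₜ[A] b : W))
      rw [TensorProduct.smul_tmul', Algebra.TensorProduct.tmul_mul_tmul, smul_eq_mul, one_mul]
    refine Submodule.sum_mem _ fun k _ => ?_
    rw [map_mul, hΘ, map_pow, ← Algebra.smul_def]
    exact Submodule.smul_mem _ _ (Submodule.subset_span ⟨k, rfl⟩)
  have hall : Submodule.span F (Set.range v) = ⊤ := top_unique fun z _ => by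
    induction z using TensorProduct.induction_on with
    | zero => exact zero_mem _
    | add x y hx hy => exact add_mem (hx trivial) (hy trivial)
    | tmul f w =>
      induction w using TensorProduct.induction_on with
      | zero => rw [TensorProduct.tmul_zero]; exact zero_mem _
      | add x y hx hy => rw [TensorProduct.tmul_add]; exact add_mem (hx trivial) (hy trivial)
      | tmul o b =>
        have : f ⊗ₜ[Ω] (o ⊗ₜ[A] b : W) = (o • f) • ψ b := by
          show _ = (o • f) • ((1 : F) ⊗ₜ[Ω] ((1 : Ω) ⊗ₜ[A] b : W))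
          rw [TensorProduct.smul_tmul', smul_eq_mul, mul_one, TensorProduct.smul_tmul,
            TensorProduct.smul_tmul', smul_eq_mul, mul_one]
        rw [this]
        exact Submodule.smul_mem _ _ (hψ b)
  rw [← Module.finrank_baseChange (R := F) (S := Ω) (M' := W), ← finrank_top F (F ⊗[Ω] W), ← hall]
  exact (finrank_range_le_card v).trans (by simp)


include η hη in
theorem finrank_tensor_le [Module.Finite Ω (Ω ⊗[A] integralClosure A L)] :
    Module.finrank Ω (Ω ⊗[A] integralClosure A L) ≤ Module.finrank K L := by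
  obtain ⟨m, Δ, c, hΔ, hspan⟩ := exists_generic η hη
  exact finrank_tensor_le_aux (FractionRing (MvPolynomial (Fin m) Ω))
    (IsFractionRing.injective _ _) Δ c hΔ hspan

omit [IsDomain A] [IsIntegrallyClosed A] in
theorem etale_finite_of_isUnit_det {S : Type u} [CommRing S] [Algebra A S] (Ag A' : Type u) [CommRing Ag] [CommRing A']
    [Algebra A Ag] [Algebra A A'] [Algebra Ag A'] [IsScalarTower A Ag A'] {ι : Type*} [Fintype ι] [DecidableEq ι]
    (b : Module.Basis ι Ag (Ag ⊗[A] S)) (hu : IsUnit (algebraMap Ag A' (Algebra.traceMatrix Ag b).det)) :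
    Algebra.Etale A' (A' ⊗[A] S) ∧ Module.Finite A' (A' ⊗[A] S) := by
  let b' := Algebra.TensorProduct.basis A' b
  haveI : Module.Finite A' (A' ⊗[Ag] (Ag ⊗[A] S)) := Module.Finite.of_basis b'
  haveI : Module.Free A' (A' ⊗[Ag] (Ag ⊗[A] S)) := Module.Free.of_basis b'
  haveI : Algebra.FormallyUnramified A' (A' ⊗[Ag] (Ag ⊗[A] S)) := by
    rw [GrothLib.TraceEtale.formallyUnramified_iff_isUnit_det b', GrothLib.TraceEtale.traceMatrix_baseChange,
      ← RingHom.mapMatrix_apply, ← RingHom.map_det]
    exact hu
  haveI : Module.FinitePresentation A' (A' ⊗[Ag] (Ag ⊗[A] S)) := Module.finitePresentation_of_projective A' _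
  haveI : Algebra.FinitePresentation A' (A' ⊗[Ag] (Ag ⊗[A] S)) := Algebra.FinitePresentation.of_finitePresentation A' _
  haveI : Algebra.Etale A' (A' ⊗[Ag] (Ag ⊗[A] S)) := Algebra.Etale.of_formallyUnramified_of_flat
  let e : A' ⊗[Ag] (Ag ⊗[A] S) ≃ₐ[A'] A' ⊗[A] S := Algebra.TensorProduct.cancelBaseChange A Ag A' A' S
  exact ⟨Algebra.Etale.of_equiv e, Module.Finite.equiv e.toLinearEquiv⟩

include η hη in
/-- **Criterion by the number of geometric points.** -/
theorem exists_etale_finite_away [IsAlgClosed Ω] :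
    ∃ g : A, algebraMap A Ω g ≠ 0 ∧
      Algebra.Etale (Localization.Away g) (Localization.Away g ⊗[A] integralClosure A L) ∧
      Module.Finite (Localization.Away g) (Localization.Away g ⊗[A] integralClosure A L) := by
  classical
  let B := integralClosure A L
  let W := Ω ⊗[A] B
  obtain ⟨a, s, ha, hs⟩ := exists_smul_mem_span η hη
  -- the algebra over the point
  haveI hWfin : Module.Finite Ω W := by
    refine ⟨⟨s.image fun b => ((1 : Ω) ⊗ₜ[A] b : W), top_unique fun z _ => ?_⟩⟩
    induction z using TensorProduct.induction_on with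
    | zero => exact zero_mem _
    | add x y hx hy => exact add_mem (hx trivial) (hy trivial)
    | tmul o b =>
      have h : ∀ y ∈ Submodule.span A (s : Set B),
          ((1 : Ω) ⊗ₜ[A] y : W) ∈ Submodule.span Ω ((s.image fun b => ((1 : Ω) ⊗ₜ[A] b : W) : Finset W) : Set W) :=
        fun y hy => by
        induction hy using Submodule.span_induction with
        | mem y hy => exact Submodule.subset_span (Finset.mem_image_of_mem _ hy)
        | zero => rw [TensorProduct.tmul_zero]; exact zero_mem _
        | add x y _ _ hx hy => rw [TensorProduct.tmul_add]; exact add_mem hx hy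
        | smul t y _ hy =>
          rw [TensorProduct.tmul_smul, algebra_compatible_smul Ω t]
          exact Submodule.smul_mem _ _ hy
      have h2 : (o ⊗ₜ[A] b : W) = (o * (algebraMap A Ω a)⁻¹) • ((1 : Ω) ⊗ₜ[A] (a • b) : W) := by
        rw [TensorProduct.tmul_smul, algebra_compatible_smul Ω a, smul_smul, mul_assoc, inv_mul_cancel₀ ha,
          mul_one, TensorProduct.smul_tmul', smul_eq_mul, mul_one]
      rw [h2]
      exact Submodule.smul_mem _ _ (h _ (hs b))
  let Φ : W →ₐ[Ω] (Fin (Module.finrank K L) → Ω) :=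
    Pi.algHom Ω _ fun i => Algebra.TensorProduct.lift (AlgHom.id Ω Ω) (η i) fun x y => Commute.all _ _
  have hΦsurj : Function.Surjective Φ := by
    have hli : LinearIndependent Ω fun i => (η i : B → Ω) := by
      have := (linearIndependent_monoidHom B Ω).comp (fun i => ((η i : B →ₐ[A] Ω) : B →* Ω))
        fun i j h => hη (AlgHom.ext fun b => DFunLike.congr_fun h b)
      exact this
    rw [← AlgHom.coe_toLinearMap, ← LinearMap.range_eq_top]
    by_contra hne
    obtain ⟨f, hf0, hf⟩ := Submodule.exists_le_ker_of_lt_top _ (lt_top_iff_ne_top.2 hne)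
    refine hf0 (LinearMap.pi_ext fun i x => ?_)
    have hc := Fintype.linearIndependent_iff.1 hli (fun i => f (Pi.single i 1)) (funext fun b => ?_) i
    · have : Pi.single i x = x • Pi.single (M := fun _ => Ω) i 1 := by simp [← Pi.single_smul]
      rw [this, map_smul, hc, smul_zero, LinearMap.zero_apply]
    · have h0 : f (Φ ((1 : Ω) ⊗ₜ[A] b)) = 0 := hf ⟨((1 : Ω) ⊗ₜ[A] b : W), rfl⟩
      rw [pi_eq_sum_univ' (Φ ((1 : Ω) ⊗ₜ[A] b)), map_sum] at h0
      simp only [Finset.sum_apply, Pi.smul_apply, Pi.zero_apply]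
      rw [← h0]
      exact Finset.sum_congr rfl fun j _ => by
        rw [map_smul, smul_eq_mul, smul_eq_mul, show Φ ((1 : Ω) ⊗ₜ[A] b : W) j = η j b from ?_, mul_comm]
        show (Pi.algHom Ω _ (fun i => Algebra.TensorProduct.lift (AlgHom.id Ω Ω) (η i) fun x y => Commute.all _ _)) ((1 : Ω) ⊗ₜ[A] b) j = _
        rw [Pi.algHom_apply, Algebra.TensorProduct.lift_tmul, map_one, one_mul]
  have hdim : Module.finrank Ω W = Module.finrank K L := by
    refine le_antisymm (finrank_tensor_le η hη) ?_
    have := LinearMap.finrank_le_finrank_of_surjective (f := Φ.toLinearMap) hΦsurj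
    simpa using this
  have hΦ : Function.Bijective Φ :=
    ⟨(LinearMap.injective_iff_surjective_of_finrank_eq_finrank (f := Φ.toLinearMap) (by simpa using hdim)).2
      hΦsurj, hΦsurj⟩
  haveI hWu : Algebra.FormallyUnramified Ω W :=
    Algebra.FormallyUnramified.of_equiv (AlgEquiv.ofBijective Φ hΦ).symm
  -- elements giving a basis over the point
  obtain ⟨x, hx⟩ : ∃ x : Fin (Module.finrank K L) → B,
      Submodule.span Ω (Set.range fun i => ((1 : Ω) ⊗ₜ[A] x i : W)) = ⊤ := by
    obtain ⟨t, hts, htspan, htli⟩ := exists_linearIndependent Ω (Set.range fun b : B => ((1 : Ω) ⊗ₜ[A] b : W))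
    have htop : Submodule.span Ω (Set.range fun b : B => ((1 : Ω) ⊗ₜ[A] b : W)) = ⊤ := top_unique fun z _ => by
      induction z using TensorProduct.induction_on with
      | zero => exact zero_mem _
      | add x y hx hy => exact add_mem (hx trivial) (hy trivial)
      | tmul o b =>
        rw [show (o ⊗ₜ[A] b : W) = o • ((1 : Ω) ⊗ₜ[A] b : W) by
          rw [TensorProduct.smul_tmul', smul_eq_mul, mul_one]]
        exact Submodule.smul_mem _ _ (Submodule.subset_span ⟨b, rfl⟩)
    let bt : Module.Basis t Ω W :=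
      Module.Basis.mk htli (by rw [Subtype.range_coe, htspan, htop])
    let bf := bt.reindex ((bt.indexEquiv (Module.finBasis Ω W)).trans (finCongr hdim))
    have hbf : ∀ i, ∃ b : B, ((1 : Ω) ⊗ₜ[A] b : W) = bf i := fun i => by
      have : bf i ∈ t := by simp [bf, bt]
      exact hts this
    choose x hx using hbf
    exact ⟨x, by simp only [hx]; exact bf.span_eq⟩
  -- Nakayama
  obtain ⟨g, hg, hgspan⟩ : ∃ g : A, algebraMap A Ω g ≠ 0 ∧
      ∀ b : B, g • b ∈ Submodule.span A (Set.range x) := by
    let N := Submodule.span A (Set.range x)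
    let M : Submodule A (B ⧸ N) := (Submodule.span A (s : Set B)).map N.mkQ
    haveI : Module.Finite A M :=
      Module.Finite.iff_fg.2 ((Submodule.fg_span s.finite_toSet).map _)
    let μ : (B ⧸ N) →ₗ[A] M := ((a • LinearMap.id : (B ⧸ N) →ₗ[A] (B ⧸ N))).codRestrict M fun z => by
      obtain ⟨b, rfl⟩ := Submodule.Quotient.mk_surjective N z
      exact ⟨a • b, hs b, rfl⟩
    have hQ : Subsingleton (Ω ⊗[A] (B ⧸ N)) := by
      refine subsingleton_of_forall_eq 0 fun z => ?_
      have hsur : Function.Surjective (N.mkQ.baseChange Ω) := LinearMap.lTensor_surjective Ω (Submodule.mkQ_surjective N)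
      obtain ⟨w, rfl⟩ := hsur z
      have hw : w ∈ Submodule.span Ω (Set.range fun i => ((1 : Ω) ⊗ₜ[A] x i : W)) := hx ▸ Submodule.mem_top
      induction hw using Submodule.span_induction with
      | mem w hw =>
        obtain ⟨i, rfl⟩ := hw
        rw [LinearMap.baseChange_tmul, show N.mkQ (x i) = 0 from
          (Submodule.Quotient.mk_eq_zero N).2 (Submodule.subset_span ⟨i, rfl⟩), TensorProduct.tmul_zero]
      | zero => exact map_zero _
      | add x y _ _ hx hy => rw [map_add, hx, hy, add_zero]
      | smul t y _ hy => rw [map_smul, hy, smul_zero]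
    have hM : Subsingleton (Ω ⊗[A] M) := by
      refine subsingleton_of_forall_eq 0 fun z => ?_
      have h : LinearMap.baseChange Ω μ (LinearMap.baseChange Ω M.subtype z) = algebraMap A Ω a • z := by
        rw [← LinearMap.comp_apply, ← LinearMap.baseChange_comp,
          show μ ∘ₗ M.subtype = a • LinearMap.id from LinearMap.ext fun y => Subtype.ext rfl,
          LinearMap.baseChange_smul, LinearMap.baseChange_id, LinearMap.smul_apply, LinearMap.id_apply,
          algebra_compatible_smul Ω a]
      rw [Subsingleton.elim (LinearMap.baseChange Ω M.subtype z) 0, map_zero] at h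
      exact (smul_eq_zero.1 h.symm).resolve_left ha
    let p : PrimeSpectrum A := ⟨RingHom.ker (algebraMap A Ω), RingHom.ker_isPrime _⟩
    haveI : p.asIdeal.IsPrime := p.isPrime
    have hp : p ∉ Module.support A M := by
      rw [Module.mem_support_iff_nontrivial_residueField_tensorProduct]
      intro hnt
      let f : p.asIdeal.ResidueField →ₐ[A] Ω :=
        Ideal.ResidueField.liftₐ p.asIdeal (Algebra.ofId A Ω) le_rfl (fun y hy => IsUnit.mk0 _ hy)
      algebraize [f.toRingHom]
      haveI : IsScalarTower A p.asIdeal.ResidueField Ω := IsScalarTower.of_algHom f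
      haveI : Nontrivial (Ω ⊗[p.asIdeal.ResidueField] (p.asIdeal.ResidueField ⊗[A] M)) :=
        Module.FaithfullyFlat.lTensor_nontrivial _ _ _
      exact not_nontrivial_iff_subsingleton.2 hM
        (AlgebraTensorModule.cancelBaseChange A p.asIdeal.ResidueField Ω Ω M).symm.nontrivial
    rw [Module.support_eq_zeroLocus, PrimeSpectrum.mem_zeroLocus, Set.not_subset] at hp
    obtain ⟨g, hg, hgp⟩ := hp
    refine ⟨g * a, by rw [map_mul]; exact mul_ne_zero hgp ha, fun b => ?_⟩
    have h0 := Module.mem_annihilator.1 hg ⟨N.mkQ (a • b), ⟨a • b, hs b, rfl⟩⟩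
    have h1 := congrArg Subtype.val h0
    rw [mul_smul]
    exact (Submodule.Quotient.mk_eq_zero N).1 h1
  have hg0 : g ≠ 0 := fun h => hg (by rw [h, map_zero])
  -- a basis away from `g`
  let Ag := Localization.Away g
  let Bg := Ag ⊗[A] B
  have hgu : IsUnit (algebraMap A Ag g) := IsLocalization.Away.algebraMap_isUnit g
  let xg : Fin (Module.finrank K L) → Bg := fun i => (1 : Ag) ⊗ₜ[A] x i
  have hspan : ⊤ ≤ Submodule.span Ag (Set.range xg) := fun z _ => by
    induction z using TensorProduct.induction_on with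
    | zero => exact zero_mem _
    | add x y hx hy => exact add_mem (hx trivial) (hy trivial)
    | tmul o b =>
      have h : ∀ y ∈ Submodule.span A (Set.range x), ((1 : Ag) ⊗ₜ[A] y : Bg) ∈ Submodule.span Ag (Set.range xg) :=
        fun y hy => by
        induction hy using Submodule.span_induction with
        | mem y hy => obtain ⟨i, rfl⟩ := hy; exact Submodule.subset_span ⟨i, rfl⟩
        | zero => rw [TensorProduct.tmul_zero]; exact zero_mem _
        | add x y _ _ hx hy => rw [TensorProduct.tmul_add]; exact add_mem hx hy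
        | smul t y _ hy =>
          rw [TensorProduct.tmul_smul, algebra_compatible_smul Ag t]
          exact Submodule.smul_mem _ _ hy
      have h2 : (o ⊗ₜ[A] b : Bg) = (o * ↑hgu.unit⁻¹) • ((1 : Ag) ⊗ₜ[A] (g • b) : Bg) := by
        rw [TensorProduct.tmul_smul, algebra_compatible_smul Ag g, smul_smul, mul_assoc, IsUnit.val_inv_mul,
          mul_one, TensorProduct.smul_tmul', smul_eq_mul, mul_one]
      rw [h2]
      exact Submodule.smul_mem _ _ (h _ (hgspan b))
  have hAL : Function.Injective (algebraMap A L) := by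
    rw [IsScalarTower.algebraMap_eq A K L]
    exact (algebraMap K L).injective.comp (IsFractionRing.injective A K)
  have hxK : LinearIndependent K (fun i => (x i : L)) := by
    refine linearIndependent_of_top_le_span_of_card_eq_finrank (fun l _ => ?_) (by simp)
    obtain ⟨y, hy, hyi⟩ := exists_integral_multiples A K {l}
    have hmem : g • (⟨y • l, hyi l (Finset.mem_singleton_self l)⟩ : B) ∈ Submodule.span A (Set.range x) := hgspan _
    have h := Submodule.apply_mem_span_image_of_mem_span B.val.toLinearMap hmem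
    rw [← Set.range_comp] at h
    have h' := Submodule.span_le_restrictScalars A K _ h
    simp only [AlgHom.toLinearMap_apply, Subalgebra.coe_val, Subalgebra.coe_smul, smul_smul,
      Submodule.restrictScalars_mem] at h'
    rw [algebra_compatible_smul K (g * y)] at h'
    exact (Submodule.smul_mem_iff _ ((map_ne_zero_iff _ (IsFractionRing.injective A K)).2 (mul_ne_zero hg0 hy))).1 h'
  have hxA : LinearIndependent A (fun i => (x i : L)) := hxK.restrict_scalars' A
  have hli : LinearIndependent Ag xg := by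
    have hAgu : ∀ y : Submonoid.powers g, IsUnit (algebraMap A L y) := fun y => by
      obtain ⟨k, hk⟩ := y.2
      exact IsUnit.mk0 _ ((map_ne_zero_iff _ hAL).2 (by rw [← hk]; exact pow_ne_zero k hg0))
    algebraize [(IsLocalization.lift hAgu : Ag →+* L)]
    haveI : IsScalarTower A Ag L := IsScalarTower.of_algebraMap_eq fun y => (IsLocalization.lift_eq hAgu y).symm
    let ρ : Bg →ₐ[Ag] L := Algebra.TensorProduct.lift (Algebra.ofId Ag L) B.val fun _ _ => Commute.all _ _
    refine LinearIndependent.of_comp ρ.toLinearMap ?_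
    have : ρ.toLinearMap ∘ xg = fun i => (x i : L) := funext fun i => by
      show ρ ((1 : Ag) ⊗ₜ[A] x i) = _
      rw [Algebra.TensorProduct.lift_tmul, map_one, one_mul]
      rfl
    rw [this]
    exact hxA.localization Ag (Submonoid.powers g)
  let bg : Module.Basis (Fin (Module.finrank K L)) Ag Bg := Module.Basis.mk hli hspan
  -- the discriminant does not vanish at the point
  let fΩ : Ag →ₐ[A] Ω := IsLocalization.liftAlgHom (M := Submonoid.powers g) (f := Algebra.ofId A Ω) fun y => by
    obtain ⟨k, hk⟩ := y.2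
    exact IsUnit.mk0 _ (by rw [← hk, map_pow]; exact pow_ne_zero k hg)
  algebraize [fΩ.toRingHom]
  haveI : IsScalarTower A Ag Ω := IsScalarTower.of_algHom fΩ
  haveI : Algebra.FormallyUnramified Ω (Ω ⊗[Ag] Bg) :=
    Algebra.FormallyUnramified.of_equiv (Algebra.TensorProduct.cancelBaseChange A Ag Ω Ω B).symm
  have hdet := (GrothLib.TraceEtale.formallyUnramified_iff_det_ne_zero (k := Ω) (R := Ω ⊗[Ag] Bg) (Algebra.TensorProduct.basis Ω bg)).1
    inferInstance
  rw [GrothLib.TraceEtale.traceMatrix_baseChange, ← RingHom.mapMatrix_apply, ← RingHom.map_det] at hdet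
  obtain ⟨⟨d, y⟩, hd⟩ := IsLocalization.mk'_surjective (Submonoid.powers g) (Algebra.traceMatrix Ag bg).det
  have hdΩ : algebraMap A Ω d ≠ 0 := by
    rw [IsScalarTower.algebraMap_apply A Ag Ω, ← IsLocalization.mk'_spec Ag d y, map_mul]
    simp only at hd
    rw [← hd] at hdet
    refine mul_ne_zero hdet ?_
    exact ((IsLocalization.map_units Ag y).map (algebraMap Ag Ω)).ne_zero
  let A' := Localization.Away (g * d)
  algebraize [(IsLocalization.Away.awayToAwayRight g d : Ag →+* A')]
  haveI : IsScalarTower A Ag A' := IsScalarTower.of_algebraMap_eq fun z =>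
    (IsLocalization.Away.lift_eq (S := Ag) g (isUnit_of_mul_isUnit_left (by
      rw [← map_mul]; exact IsLocalization.Away.algebraMap_isUnit (S := A') (g * d))) z).symm
  refine ⟨g * d, by rw [map_mul]; exact mul_ne_zero hg hdΩ, etale_finite_of_isUnit_det Ag A' bg ?_⟩
  refine isUnit_of_mul_isUnit_left (y := algebraMap Ag A' (algebraMap A Ag y)) ?_
  rw [← map_mul, ← hd]
  simp only
  rw [IsLocalization.mk'_spec, ← IsScalarTower.algebraMap_apply]
  exact isUnit_of_mul_isUnit_right (by
    rw [← map_mul]; exact IsLocalization.Away.algebraMap_isUnit (S := A') (g * d))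

end GrothLib.NormCard21
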