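import Groth.Agent.NormCard21.Local
import Groth.Agent.Lib.FEt21.NormalizationIn
import Groth.Agent.Lib.CycNorm12.Sheaf
import Mathlib.AlgebraicGeometry.Normalization
import Mathlib.AlgebraicGeometry.Morphisms.Etale
import Mathlib.AlgebraicGeometry.Morphisms.Finite

/-!
# The normalization in a finite extension near a geometric point with maximal fibre
-/

set_option autoImplicit false
set_option linter.style.haveILetI false
set_option backward.isDefEq.respectTransparency false

universe u

open CategoryTheory CategoryTheory.Limits AlgebraicGeometry TensorProduct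

namespace GrothLib.NormCard21

/-- A morphism which over an affine open is given by `R → B` is finite étale over a basic open where `B` is. -/
theorem etale_finite_pullback_snd {X Y : Scheme.{u}} (ν : Y ⟶ X) {R B Rg : Type u} [CommRing R] [CommRing B]
    [CommRing Rg] [Algebra R B] [Algebra R Rg] (iX : Spec (CommRingCat.of R) ⟶ X)
    (iY : Spec (CommRingCat.of B) ⟶ Y)
    (sq : IsPullback iY (Spec.map (CommRingCat.ofHom (algebraMap R B))) ν iX)
    [IsOpenImmersion (Spec.map (CommRingCat.ofHom (algebraMap R Rg)) ≫ iX)]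
    [Algebra.Etale Rg (Rg ⊗[R] B)] [Module.Finite Rg (Rg ⊗[R] B)] :
    Etale (pullback.snd ν (Spec.map (CommRingCat.ofHom (algebraMap R Rg)) ≫ iX).opensRange.ι) ∧
      IsFinite (pullback.snd ν (Spec.map (CommRingCat.ofHom (algebraMap R Rg)) ≫ iX).opensRange.ι) := by
  let jR : Spec (CommRingCat.of Rg) ⟶ Spec (CommRingCat.of R) := Spec.map (CommRingCat.ofHom (algebraMap R Rg))
  let h : Spec (CommRingCat.of (Rg ⊗[R] B)) ⟶ Spec (CommRingCat.of Rg) :=
    Spec.map (CommRingCat.ofHom (algebraMap Rg (Rg ⊗[R] B)))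
  let h' : Spec (CommRingCat.of (Rg ⊗[R] B)) ⟶ Spec (CommRingCat.of B) :=
    Spec.map (CommRingCat.ofHom (Algebra.TensorProduct.includeRight : B →ₐ[R] Rg ⊗[R] B).toRingHom)
  have sq0 : IsPullback h' h (Spec.map (CommRingCat.ofHom (algebraMap R B))) jR :=
    (IsPullback.of_iso_pullback ⟨by
        show h ≫ jR = h' ≫ _
        simp only [h, h', jR, ← Spec.map_comp, ← CommRingCat.ofHom_comp]
        congr 2
        all_goals exact (Algebra.TensorProduct.includeLeftRingHom_comp_algebraMap)⟩
      (pullbackSpecIso R Rg B).symm (pullbackSpecIso_inv_fst' R Rg B) (pullbackSpecIso_inv_snd R Rg B)).flip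
  have big : IsPullback (h' ≫ iY) h ν (jR ≫ iX) := sq0.paste_horiz sq
  let e := IsOpenImmersion.isoOfRangeEq (jR ≫ iX) (jR ≫ iX).opensRange.ι (by simp)
  have big' : IsPullback (h' ≫ iY) (h ≫ e.hom) ν (jR ≫ iX).opensRange.ι :=
    big.of_iso (Iso.refl _) (Iso.refl _) e (Iso.refl _) (by simp) (by simp) (by simp) (by simp [e])
  show Etale (pullback.snd ν (jR ≫ iX).opensRange.ι) ∧ IsFinite (pullback.snd ν (jR ≫ iX).opensRange.ι)
  haveI : Etale h := by
    rw [HasRingHomProperty.Spec_iff (P := @Etale)]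
    exact RingHom.etale_algebraMap.mpr inferInstance
  haveI : IsFinite h := (IsFinite.SpecMap_iff _).mpr (RingHom.finite_algebraMap.mpr inferInstance)
  have hc : pullback.snd ν (jR ≫ iX).opensRange.ι = big'.isoPullback.inv ≫ h ≫ e.hom := by
    rw [IsPullback.isoPullback_inv_snd]
  rw [hc]
  exact ⟨inferInstance, inferInstance⟩

open GrothLib.FEt21 in
/-- The normalization is finite étale near a geometric point with as many preimages as the degree. -/
theorem exists_finite_etale_near {X : Scheme.{u}} [IsIntegral X] (hX : Pi1.IsNormalScheme X)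
    (L : Type u) [Field L] [Algebra X.functionField L] [FiniteDimensional X.functionField L]
    [QuasiCompact (extPt (X := X) L)] [QuasiSeparated (extPt (X := X) L)]
    (Ω : Type u) [Field Ω] [IsAlgClosed Ω] (ξ : Spec (CommRingCat.of Ω) ⟶ X)
    (hcard : Nonempty (Fin (Module.finrank X.functionField L) ↪
      {η : Spec (CommRingCat.of Ω) ⟶ (extPt (X := X) L).normalization //
        η ≫ (extPt (X := X) L).fromNormalization = ξ})) :
    ∃ U : X.Opens, Set.range ξ.base ⊆ (U : Set X) ∧
      Etale (pullback.snd (extPt (X := X) L).fromNormalization U.ι) ∧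
      IsFinite (pullback.snd (extPt (X := X) L).fromNormalization U.ι) := by
  let f := extPt (X := X) L
  haveI : Subsingleton (Spec (CommRingCat.of Ω)) := inferInstanceAs (Subsingleton (PrimeSpectrum Ω))
  let z : Spec (CommRingCat.of Ω) := IsLocalRing.closedPoint Ω
  obtain ⟨_, ⟨U, hU, rfl⟩, hxU, -⟩ :=
    X.isBasis_affineOpens.exists_subset_of_mem_open (Set.mem_univ (ξ z)) isOpen_univ
  haveI : Nonempty U := ⟨⟨ξ z, hxU⟩⟩
  have hηU : genericPoint X ∈ U := (genericPoint_specializes (ξ z)).mem_open U.2 hxU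
  have htop : (⊤ : (Spec (CommRingCat.of L)).Opens) ≤ f ⁻¹ᵁ U := fun w _ => by
    show f w ∈ U
    rw [extPt_apply]
    exact hηU
  letI : Algebra Γ(X, U) L :=
    ((algebraMap X.functionField L).comp (X.germToFunctionField U).hom).toAlgebra
  haveI : IsScalarTower Γ(X, U) X.functionField L := IsScalarTower.of_algebraMap_eq fun a => rfl
  haveI : IsFractionRing Γ(X, U) X.functionField := functionField_isFractionRing_of_isAffineOpen X U hU
  haveI : IsIntegrallyClosed Γ(X, U) := GrothLib.CycNorm12.isIntegrallyClosed_sections hX hU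
  letI : Algebra Γ(X, U) Γ(Spec (CommRingCat.of L), f ⁻¹ᵁ U) := (f.app U).hom.toAlgebra
  -- the sections of the generic point
  let r : Γ(Spec (CommRingCat.of L), f ⁻¹ᵁ U) ≅ CommRingCat.of L :=
    (Spec (CommRingCat.of L)).presheaf.mapIso (eqToIso (top_le_iff.1 htop).symm).op ≪≫
      Scheme.ΓSpecIso (CommRingCat.of L)
  let e : Γ(Spec (CommRingCat.of L), f ⁻¹ᵁ U) ≃ₐ[Γ(X, U)] L :=
    AlgEquiv.ofRingEquiv (f := r.commRingCatIsoToRingEquiv) fun a => by
      refine Eq.trans ?_ (appLE_extPt L htop a)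
      rfl
  let B := integralClosure Γ(X, U) L
  let B' := integralClosure Γ(X, U) Γ(Spec (CommRingCat.of L), f ⁻¹ᵁ U)
  let eB : B' ≃ₐ[Γ(X, U)] B := e.mapIntegralClosure
  let iY : Spec (CommRingCat.of B') ⟶ f.normalization := f.normalizationOpenCover.f ⟨U, hU⟩
  have hιY : iY ≫ f.fromNormalization =
      Spec.map (CommRingCat.ofHom (algebraMap Γ(X, U) B')) ≫ hU.fromSpec := f.ι_fromNormalization ⟨U, hU⟩
  have sq : IsPullback iY (Spec.map (CommRingCat.ofHom (algebraMap Γ(X, U) B'))) f.fromNormalization hU.fromSpec := by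
    refine (IsOpenImmersion.isPullback _ iY hU.fromSpec f.fromNormalization hιY ?_).flip
    rw [hU.opensRange_fromSpec]
    exact f.fromNormalization_preimage ⟨U, hU⟩
  -- the geometric point
  have hξr : Set.range ξ ⊆ Set.range hU.fromSpec := by
    rintro - ⟨w, rfl⟩
    rw [hU.range_fromSpec, Subsingleton.elim w z]
    exact hxU
  let ξ' : Spec (CommRingCat.of Ω) ⟶ Spec Γ(X, U) := IsOpenImmersion.lift hU.fromSpec ξ hξr
  letI : Algebra Γ(X, U) Ω := (Spec.preimage ξ').hom.toAlgebra
  have hξ' : Spec.map (CommRingCat.ofHom (algebraMap Γ(X, U) Ω)) ≫ hU.fromSpec = ξ := by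
    show Spec.map (Spec.preimage ξ') ≫ hU.fromSpec = ξ
    rw [Spec.map_preimage, IsOpenImmersion.lift_fac]
  obtain ⟨emb⟩ := hcard
  have hlift : ∀ i, ∃ φ : B' →ₐ[Γ(X, U)] Ω, Spec.map (CommRingCat.ofHom φ.toRingHom) ≫ iY = (emb i).1 := by
    intro i
    let q := sq.lift (emb i).1 ξ' ((emb i).2.trans (IsOpenImmersion.lift_fac hU.fromSpec ξ hξr).symm)
    have hq : q ≫ iY = (emb i).1 := sq.lift_fst _ _ _
    have hq2 : q ≫ Spec.map (CommRingCat.ofHom (algebraMap Γ(X, U) B')) = ξ' := sq.lift_snd _ _ _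
    refine ⟨{ (Spec.preimage q).hom with commutes' := fun a => ?_ }, ?_⟩
    · have h : CommRingCat.ofHom (algebraMap Γ(X, U) B') ≫ Spec.preimage q = Spec.preimage ξ' :=
        Spec.map_injective (by rw [Spec.map_comp, Spec.map_preimage, Spec.map_preimage, hq2])
      exact ConcreteCategory.congr_hom h a
    · show Spec.map (Spec.preimage q) ≫ iY = _
      rw [Spec.map_preimage, hq]
  choose φ hφ using hlift
  let η : Fin (Module.finrank X.functionField L) → (B →ₐ[Γ(X, U)] Ω) := fun i => (φ i).comp eB.symm.toAlgHom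
  have hη : Function.Injective η := fun i j h => by
    have h' : φ i = φ j := by
      have h2 := congrArg (fun χ : B →ₐ[Γ(X, U)] Ω => χ.comp eB.toAlgHom) h
      ext b
      have h3 := DFunLike.congr_fun h2 b
      simpa [η] using h3
    exact emb.injective (Subtype.ext (by rw [← hφ i, ← hφ j, h']))
  obtain ⟨g, hg, het, hfin⟩ := exists_etale_finite_away η hη
  let eg : Localization.Away g ⊗[Γ(X, U)] B ≃ₐ[Localization.Away g] Localization.Away g ⊗[Γ(X, U)] B' :=
    Algebra.TensorProduct.congr AlgEquiv.refl eB.symm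
  haveI : Algebra.Etale (Localization.Away g) (Localization.Away g ⊗[Γ(X, U)] B') := Algebra.Etale.of_equiv eg
  haveI : Module.Finite (Localization.Away g) (Localization.Away g ⊗[Γ(X, U)] B') :=
    Module.Finite.equiv eg.toLinearEquiv
  haveI : IsOpenImmersion (Spec.map (CommRingCat.ofHom (algebraMap Γ(X, U) (Localization.Away g)))) :=
    IsOpenImmersion.of_isLocalization g
  refine ⟨(Spec.map (CommRingCat.ofHom (algebraMap Γ(X, U) (Localization.Away g))) ≫ hU.fromSpec).opensRange, ?_,
    etale_finite_pullback_snd f.fromNormalization hU.fromSpec iY sq⟩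
  rintro - ⟨w, rfl⟩
  let l : Localization.Away g →+* Ω := IsLocalization.Away.lift g (isUnit_iff_ne_zero.2 hg)
  refine ⟨Spec.map (CommRingCat.ofHom l) w, ?_⟩
  rw [← Scheme.Hom.comp_apply, ← Category.assoc, ← Spec.map_comp, ← CommRingCat.ofHom_comp,
    IsLocalization.Away.lift_comp]
  rw [hξ']

end GrothLib.NormCard21
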